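import Cfsg.Agent.Pronormal.EvenLinear

/-!
Sylow 2-subgroups of an extension of `L_n(2)` of index two meet non-trivially.
-/

set_option autoImplicit false
set_option linter.style.haveILetI false
set_option linter.unusedSectionVars false

namespace CfsgLib.SylowMeet

open Matrix
open scoped MatrixGroups

section Abstract

variable {G : Type*} [Group G] [Finite G] (N : Subgroup G) [N.Normal]

/-- The abstract argument: an element outside `N` normalises two opposite Sylow subgroups of `N`. -/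
theorem exists_common (hidx : N.index = 2) (U : Subgroup G) (hUN : U ≤ N)
    (hU2 : IsPGroup 2 U) (hUidx : ¬ 2 ∣ U.relIndex N)
    (hself : ∀ x ∈ N, x ∈ Subgroup.normalizer (U : Set G) → x ∈ U)
    (w : G) (hw : w ∈ N) (hUw : ∀ x ∈ U, w⁻¹ * x * w ∈ U → x = 1)
    (hopp : ∀ g ∈ N, (∀ x ∈ U, g⁻¹ * x * g ∈ U → x = 1) →
      ∃ u ∈ U, ∀ x, g⁻¹ * x * g ∈ U ↔ w⁻¹ * (u⁻¹ * x * u) * w ∈ U)
    (H H' : Sylow 2 G) : ∃ z, z ≠ 1 ∧ z ∈ (H : Subgroup G) ∧ z ∈ (H' : Subgroup G) := by
  haveI : Fact (Nat.Prime 2) := ⟨Nat.prime_two⟩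
  -- the intersections with `N` are conjugates of `U` inside `N`
  have hsyl : ∀ K : Sylow 2 G, ∃ a ∈ N, ∀ x, (x ∈ (K : Subgroup G) ∧ x ∈ N) ↔ a⁻¹ * x * a ∈ U := by
    intro K
    have hUp : IsPGroup 2 (U.subgroupOf N) := hU2.comap_subtype
    obtain ⟨S, hS⟩ : ∃ S : Sylow 2 N, (S : Subgroup N) = U.subgroupOf N :=
      ⟨hUp.toSylow hUidx, rfl⟩
    have hKp : IsPGroup 2 ((K : Subgroup G).subgroupOf N) := K.isPGroup'.comap_subtype
    obtain ⟨P, hP⟩ := hKp.exists_le_sylow
    have hKN : (K : Subgroup G).subgroupOf N = (P : Subgroup N) := by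
      refine le_antisymm hP fun x hx => ?_
      -- `K` normalises nothing larger: the product with `P` is again a 2-group
      have hidx' : ¬ 2 ∣ ((K : Subgroup G).subgroupOf N).index := by
        intro hd
        have hd' : 2 ∣ (K : Subgroup G).relIndex N := hd
        have h1 : ((K : Subgroup G) ⊓ N).relIndex N * N.index = ((K : Subgroup G) ⊓ N).index :=
          Subgroup.relIndex_mul_index inf_le_right
        have h2 : ((K : Subgroup G) ⊓ N).relIndex (K : Subgroup G) * (K : Subgroup G).index =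
            ((K : Subgroup G) ⊓ N).index := Subgroup.relIndex_mul_index inf_le_left
        rw [Subgroup.inf_relIndex_right, hidx] at h1
        rw [Subgroup.inf_relIndex_left, ← h1] at h2
        have h3 : N.relIndex (K : Subgroup G) ∣ 2 := by
          have h := Subgroup.relIndex_dvd_index_of_normal N (K : Subgroup G)
          rwa [hidx] at h
        rcases (Nat.dvd_prime Nat.prime_two).1 h3 with h | h <;> rw [h] at h2 <;>
          exact K.not_dvd_index (by omega)
      have hPK : hKp.toSylow hidx' = P := Sylow.ext ((hKp.toSylow hidx').is_maximal' P.isPGroup' hP).symm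
      rw [← hPK] at hx
      exact hx
    obtain ⟨a, ha⟩ := MulAction.exists_smul_eq N S P
    refine ⟨a, a.2, fun x => ⟨fun ⟨hxK, hxN⟩ => ?_, fun hx => ?_⟩⟩
    · have h1 : (⟨x, hxN⟩ : N) ∈ (P : Subgroup N) := by rw [← hKN]; exact hxK
      rw [← ha, Sylow.coe_subgroup_smul, Subgroup.mem_pointwise_smul_iff_inv_smul_mem, hS] at h1
      simpa [Subgroup.mem_subgroupOf, MulAut.smul_def] using h1
    · have hxN : x ∈ N := by
        have := mul_mem (mul_mem a.2 (hUN hx)) (inv_mem a.2)
        simpa [mul_assoc] using this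
      have h1 : (⟨x, hxN⟩ : N) ∈ (P : Subgroup N) := by
        rw [← ha, Sylow.coe_subgroup_smul, Subgroup.mem_pointwise_smul_iff_inv_smul_mem, hS]
        simpa [Subgroup.mem_subgroupOf, MulAut.smul_def] using hx
      rw [← hKN] at h1
      exact ⟨h1, hxN⟩
  obtain ⟨a, haN, ha⟩ := hsyl H
  obtain ⟨b, hbN, hb⟩ := hsyl H'
  set g := a⁻¹ * b with hg
  have hgN : g ∈ N := mul_mem (inv_mem haN) hbN
  by_cases hmeet : ∀ x ∈ U, g⁻¹ * x * g ∈ U → x = 1
  · obtain ⟨u, hu, hgu⟩ := hopp g hgN hmeet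
    -- an element of `H` outside `N`
    obtain ⟨h, hhH, hhN⟩ : ∃ h ∈ (H : Subgroup G), h ∉ N := by
      by_contra hc
      push Not at hc
      refine H.not_dvd_index (dvd_trans (dvd_of_eq hidx.symm) ?_)
      exact Subgroup.index_dvd_of_le hc
    -- moved to normalise `U`
    have hy0 : ∀ x, x ∈ U ↔ (a⁻¹ * h * a) * x * (a⁻¹ * h * a)⁻¹ ∈ U := by
      intro x
      constructor
      · intro hx
        obtain ⟨hK, hN'⟩ := (ha (a * x * a⁻¹)).2 (by simpa [mul_assoc] using hx)
        have := (ha (h * (a * x * a⁻¹) * h⁻¹)).1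
          ⟨mul_mem (mul_mem hhH hK) (inv_mem hhH), Subgroup.Normal.conj_mem inferInstance _ hN' h⟩
        simpa [mul_assoc] using this
      · intro hx
        obtain ⟨hK, hN'⟩ := (ha (h * (a * x * a⁻¹) * h⁻¹)).2 (by simpa [mul_assoc] using hx)
        have h1 := mul_mem (mul_mem (inv_mem hhH) hK) hhH
        have h2 := Subgroup.Normal.conj_mem inferInstance _ hN' h⁻¹
        have := (ha (a * x * a⁻¹)).1 ⟨by simpa [mul_assoc] using h1, by simpa [mul_assoc] using h2⟩
        simpa [mul_assoc] using this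
    set y0 := a⁻¹ * h * a
    set w' := y0 * w * y0⁻¹
    have hw' : w' ∈ N := Subgroup.Normal.conj_mem inferInstance w hw y0
    have hw'U : ∀ x, w'⁻¹ * x * w' ∈ U ↔ w⁻¹ * (y0⁻¹ * x * y0) * w ∈ U := by
      intro x
      conv_rhs => rw [hy0]
      simp [w', mul_assoc]
    obtain ⟨v, hv, hwv⟩ := hopp w' hw' (fun x hx hx' => by
      have h1 : y0⁻¹ * x * y0 ∈ U := by rw [hy0]; simpa [mul_assoc] using hx
      have := hUw _ h1 ((hw'U x).1 hx')
      have e : x = y0 * (y0⁻¹ * x * y0) * y0⁻¹ := by group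
      rw [e, this, mul_one, mul_inv_cancel])
    -- `y` normalises both
    set y := v⁻¹ * y0
    have hyU : ∀ x, x ∈ U ↔ y * x * y⁻¹ ∈ U := by
      intro x
      rw [hy0 x]
      constructor
      · intro hx
        have := mul_mem (mul_mem (inv_mem hv) hx) hv
        simpa [y, mul_assoc] using this
      · intro hx
        have := mul_mem (mul_mem hv hx) (inv_mem hv)
        simpa [y, mul_assoc] using this
    have hyT : ∀ x, w⁻¹ * x * w ∈ U ↔ w⁻¹ * (y * x * y⁻¹) * w ∈ U := by
      intro x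
      have h1 := (hw'U (y0 * x * y0⁻¹)).symm.trans (hwv (y0 * x * y0⁻¹))
      simpa [y, mul_assoc] using h1
    set z := a * u * y * u⁻¹ * a⁻¹
    have hzN : z ∉ N := by
      intro hz
      refine hhN ?_
      have huN := hUN hu
      have hvN := hUN hv
      have e : h = a * (v * (u⁻¹ * a⁻¹ * z * a * u)) * a⁻¹ := by
        simp only [z, y, y0]; group
      rw [e]
      exact mul_mem (mul_mem haN (mul_mem hvN (mul_mem (mul_mem (mul_mem (mul_mem (inv_mem huN)
        (inv_mem haN)) hz) haN) huN))) (inv_mem haN)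
    -- it normalises both intersections
    have key : ∀ (K : Sylow 2 G) (c : G), c ∈ N →
        (∀ x, (x ∈ (K : Subgroup G) ∧ x ∈ N) ↔ c⁻¹ * x * c ∈ U) →
        (∀ x, c⁻¹ * x * c ∈ U ↔ c⁻¹ * (z * x * z⁻¹) * c ∈ U) → z ∈ (K : Subgroup G) := by
      intro K c hc hK hzK
      obtain ⟨k, hkK, hkN⟩ : ∃ k ∈ (K : Subgroup G), k ∉ N := by
        by_contra hc
        push Not at hc
        exact K.not_dvd_index (dvd_trans (dvd_of_eq hidx.symm) (Subgroup.index_dvd_of_le hc))
      have hn : k⁻¹ * z ∈ N := by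
        rw [Subgroup.mul_mem_iff_of_index_two hidx, inv_mem_iff]
        exact iff_of_false hkN hzN
      have hmem : c⁻¹ * (k⁻¹ * z) * c ∈ U := by
        refine hself _ (mul_mem (mul_mem (inv_mem hc) hn) hc) (Subgroup.mem_normalizer_iff.2 fun x => ?_)
        have e1 : ∀ x', c⁻¹ * x' * c ∈ U ↔ c⁻¹ * ((k⁻¹ * z) * x' * (k⁻¹ * z)⁻¹) * c ∈ U := by
          intro x'
          rw [hzK x', ← hK, ← hK]
          have e : k⁻¹ * z * x' * (k⁻¹ * z)⁻¹ = k⁻¹ * (z * x' * z⁻¹) * k := by group
          rw [e]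
          constructor
          · rintro ⟨h1, h2⟩
            exact ⟨mul_mem (mul_mem (inv_mem hkK) h1) hkK, by
              simpa using Subgroup.Normal.conj_mem inferInstance _ h2 k⁻¹⟩
          · rintro ⟨h1, h2⟩
            refine ⟨?_, ?_⟩
            · simpa [mul_assoc] using mul_mem (mul_mem hkK h1) (inv_mem hkK)
            · simpa [mul_assoc] using Subgroup.Normal.conj_mem inferInstance _ h2 k
        have := e1 (c * x * c⁻¹)
        simpa [mul_assoc] using this
      have := mul_mem hkK ((hK (k⁻¹ * z)).2 hmem).1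
      simpa using this
    refine ⟨z, fun e => hzN (e ▸ one_mem N), key H a haN ha ?_, key H' b hbN hb ?_⟩
    · intro x
      have hin : ∀ t, t ∈ U ↔ u * t * u⁻¹ ∈ U := fun t => ⟨fun ht => mul_mem (mul_mem hu ht) (inv_mem hu),
        fun ht => by simpa [mul_assoc] using mul_mem (mul_mem (inv_mem hu) ht) hu⟩
      have h1 : a⁻¹ * x * a ∈ U ↔ u⁻¹ * (a⁻¹ * x * a) * u ∈ U := by
        conv_rhs => rw [hin]
        simp [mul_assoc]
      rw [h1, hyU]
      conv_lhs => rw [hin]
      simp [z, mul_assoc]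
    · intro x
      have hb' : ∀ t, b⁻¹ * t * b ∈ U ↔ g⁻¹ * (a⁻¹ * t * a) * g ∈ U := fun t => by simp [hg, mul_assoc]
      rw [hb' x, hb', hgu, hgu, hyT]
      simp [z, mul_assoc]
  · push Not at hmeet
    obtain ⟨x, hx, hxg, hx1⟩ := hmeet
    refine ⟨a * x * a⁻¹, fun e => hx1 (conj_eq_one_iff.1 e), ?_, ?_⟩
    · exact ((ha _).2 (by simpa [mul_assoc] using hx)).1
    · exact ((hb _).2 (by simpa [hg, mul_assoc] using hxg)).1

end Abstract

section Model

variable {n : ℕ}

local notation "GL2" => GL (Fin n) (ZMod 2)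

theorem zmod_two_eq_one {x : ZMod 2} (h : x ≠ 0) : x = 1 := by
  revert h; revert x; decide

theorem diag_one {g : GL2} (hg : g ∈ Cfsg.upperTriangularGL n (ZMod 2)) (i : Fin n) :
    (g : Matrix (Fin n) (Fin n) (ZMod 2)) i i = 1 := by
  obtain ⟨t, ht, -⟩ := CfsgLib.Pronormal.exists_unitri_diag hg
  exact zmod_two_eq_one (by rw [← ht]; exact (t i).ne_zero)

/-- the unitriangular group -/
abbrev upp (n : ℕ) : Subgroup (GL (Fin n) (ZMod 2)) := Cfsg.upperTriangularGL n (ZMod 2)

theorem upp_eq : upp n = CfsgLib.Pronormal.unitri n (ZMod 2) :=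
  le_antisymm (fun _ hg => ⟨hg, diag_one hg⟩) fun _ hg => hg.1

theorem upp_isPGroup : IsPGroup 2 (upp n) := fun g => by
  obtain ⟨k, hk⟩ := CfsgLib.Pronormal.unitri_isPGroup (n := n) (F := ZMod 2) (g := g.1)
    (upp_eq (n := n) ▸ g.2)
  exact ⟨k, Subtype.ext (by simpa using hk)⟩

theorem monoGL_one (π : Equiv.Perm (Fin n)) :
    CfsgLib.Pronormal.monoGL (1 : Fin n → (ZMod 2)ˣ) π = CfsgLib.GLn.permGL (ZMod 2) π := by
  simp [CfsgLib.Pronormal.monoGL]

/-- the transvection above the diagonal -/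
noncomputable def rootElt {i j : Fin n} (h : i < j) : GL2 :=
  GeneralLinearGroup.mkOfDetNeZero (transvection i j (1 : ZMod 2))
    (by rw [det_transvection_of_ne i j h.ne 1]; exact one_ne_zero)

theorem rootElt_mem {i j : Fin n} (h : i < j) : rootElt h ∈ upp n := fun a b hab => by
  have hab' : b < a := hab
  change transvection i j (1 : ZMod 2) a b = 0
  simp only [transvection, Matrix.add_apply, Matrix.one_apply, Matrix.single_apply,
    if_neg hab'.ne', zero_add]
  exact if_neg fun h' => absurd hab' (by rw [← h'.1, ← h'.2]; exact h.le.not_gt)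

theorem rootElt_ne {i j : Fin n} (h : i < j) : rootElt h ≠ 1 := by
  intro e
  have := congrArg (fun g : GL2 => (g : Matrix (Fin n) (Fin n) (ZMod 2)) i j) e
  simp [rootElt, transvection, h.ne] at this

theorem perm_conj_root {i j : Fin n} (h : i < j) (π : Equiv.Perm (Fin n)) (h' : π i < π j) :
    CfsgLib.GLn.permGL (ZMod 2) π * rootElt h * (CfsgLib.GLn.permGL (ZMod 2) π)⁻¹ ∈ upp n := by
  intro a b hab
  have hab' : b < a := hab
  obtain ⟨a, rfl⟩ := π.surjective a
  obtain ⟨b, rfl⟩ := π.surjective b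
  rw [← monoGL_one, CfsgLib.Pronormal.monoGL_conj_apply]
  change _ * transvection i j (1 : ZMod 2) a b * _ = 0
  have hne : a ≠ b := fun e => by simp [e] at hab'
  simp only [transvection, Matrix.add_apply, Matrix.one_apply, Matrix.single_apply, if_neg hne, zero_add]
  rw [if_neg, mul_zero, zero_mul]
  rintro ⟨rfl, rfl⟩
  exact absurd hab' h'.le.not_gt

theorem self_normal {x : GL2} (hx : x ∈ Subgroup.normalizer (upp n : Set GL2)) : x ∈ upp n := by
  obtain ⟨π, b, hb, u, hu, rfl⟩ := CfsgLib.GLn.exists_bruhat x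
  have hπN : CfsgLib.GLn.permGL (ZMod 2) π ∈ Subgroup.normalizer (upp n : Set GL2) := by
    have e : CfsgLib.GLn.permGL (ZMod 2) π = b⁻¹ * (b * CfsgLib.GLn.permGL (ZMod 2) π * u) * u⁻¹ := by group
    rw [e]
    exact mul_mem (mul_mem (inv_mem (Subgroup.le_normalizer hb)) hx) (inv_mem (Subgroup.le_normalizer hu))
  have hπ : π = 1 := by
    refine CfsgLib.Pronormal.perm_eq_one_of_adjacent fun i j hij => ?_
    have hlt : i < j := Fin.lt_def.mpr (by omega)
    by_contra hn
    have h1 := (Subgroup.mem_normalizer_iff.1 hπN _).1 (rootElt_mem hlt)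
    have h2 : π j < π i := lt_of_le_of_ne (not_lt.1 hn) fun e => hlt.ne (π.injective e.symm)
    have h0 := h1 h2
    rw [← monoGL_one, CfsgLib.Pronormal.monoGL_conj_apply] at h0
    simp [rootElt, transvection, hlt.ne] at h0
  subst hπ
  rw [map_one, mul_one]
  exact mul_mem hb hu

/-- the longest permutation matrix -/
noncomputable def wTop (n : ℕ) : GL (Fin n) (ZMod 2) := CfsgLib.GLn.permGL (ZMod 2) Fin.revPerm

theorem meet_wTop {x : GL2} (hx : x ∈ upp n) (hx' : (wTop n)⁻¹ * x * wTop n ∈ upp n) : x = 1 := by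
  set y := (wTop n)⁻¹ * x * wTop n with hy
  have hxy : x = wTop n * y * (wTop n)⁻¹ := by rw [hy]; group
  refine Units.ext (Matrix.ext fun a b => ?_)
  rcases lt_trichotomy b a with h | rfl | h
  · rw [show (x : Matrix (Fin n) (Fin n) (ZMod 2)) a b = 0 from hx h, Units.val_one, Matrix.one_apply_ne h.ne']
  · rw [diag_one hx, Units.val_one, Matrix.one_apply_eq]
  · rw [Units.val_one, Matrix.one_apply_ne h.ne, hxy, wTop, ← monoGL_one]
    obtain ⟨a, rfl⟩ := Fin.revPerm.surjective a
    obtain ⟨b, rfl⟩ := Fin.revPerm.surjective b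
    rw [CfsgLib.Pronormal.monoGL_conj_apply]
    rw [show (y : Matrix (Fin n) (Fin n) (ZMod 2)) a b = 0 from hx' (by simpa using h : b < a)]
    simp

theorem opposite {g : GL2} (hg : ∀ x ∈ upp n, g⁻¹ * x * g ∈ upp n → x = 1) :
    ∃ u ∈ upp n, ∀ x, g⁻¹ * x * g ∈ upp n ↔ (wTop n)⁻¹ * (u⁻¹ * x * u) * wTop n ∈ upp n := by
  obtain ⟨π, b, hb, v, hv, rfl⟩ := CfsgLib.GLn.exists_bruhat g
  have hanti : ∀ i j : Fin n, i < j → π j < π i := by
    intro i j h
    by_contra hn
    have h' : π i < π j := lt_of_le_of_ne (not_lt.1 hn) fun e => h.ne (π.injective e)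
    set r := CfsgLib.GLn.permGL (ZMod 2) π * rootElt h * (CfsgLib.GLn.permGL (ZMod 2) π)⁻¹ with hr
    have h1 := hg (b * r * b⁻¹) (mul_mem (mul_mem hb (perm_conj_root h π h')) (inv_mem hb)) (by
      have e : (b * CfsgLib.GLn.permGL (ZMod 2) π * v)⁻¹ * (b * r * b⁻¹) *
          (b * CfsgLib.GLn.permGL (ZMod 2) π * v) = v⁻¹ * rootElt h * v := by rw [hr]; group
      rw [e]
      exact mul_mem (mul_mem (inv_mem hv) (rootElt_mem h)) hv)
    rw [conj_eq_one_iff, hr, conj_eq_one_iff] at h1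
    exact rootElt_ne h h1
  have hπ : π = Fin.revPerm := by
    have hm : StrictMono (Fin.revPerm ∘ π : Fin n → Fin n) := fun i j h => by
      simpa using hanti i j h
    have h2 : (Fin.revPerm ∘ π : Fin n → Fin n) = id :=
      (hm.range_inj strictMono_id).mp (by
        rw [Set.range_id, (Fin.revPerm.surjective.comp π.surjective).range_eq])
    refine Equiv.ext fun i => ?_
    have := congrFun h2 i
    simp at this
    rw [Fin.revPerm_apply]
    exact Fin.rev_eq_iff.1 this
  subst hπ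
  refine ⟨b, hb, fun x => ?_⟩
  constructor
  · intro hx
    have := mul_mem (mul_mem hv hx) (inv_mem hv)
    simpa [wTop, mul_assoc] using this
  · intro hx
    have := mul_mem (mul_mem (inv_mem hv) hx) hv
    simpa [wTop, mul_assoc] using this

end Model

open scoped MatrixGroups in
/-- Sylow 2-subgroups of a group with `L_n(2)` of index two meet non-trivially. -/
theorem meet_linear {G : Type*} [Group G] [Finite G] {n : ℕ} (N : Subgroup G) [N.Normal]
    (e : N ≃* Matrix.SpecialLinearGroup (Fin n) (ZMod 2)) (hidx : N.index = 2)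
    (H H' : Sylow 2 G) : ∃ z, z ≠ 1 ∧ z ∈ (H : Subgroup G) ∧ z ∈ (H' : Subgroup G) := by
  haveI : Fact (Nat.Prime 2) := ⟨Nat.prime_two⟩
  let toG : Matrix.SpecialLinearGroup (Fin n) (ZMod 2) →* GL (Fin n) (ZMod 2) :=
    Matrix.SpecialLinearGroup.toGL
  have hinj : Function.Injective toG := fun a b h => Subtype.ext (congrArg Units.val h)
  have hsurj : Function.Surjective toG := fun g =>
    CfsgLib.Pronormal.mem_range_toGL.2 (zmod_two_eq_one (Matrix.GeneralLinearGroup.det g).ne_zero)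
  let θ : N ≃* GL (Fin n) (ZMod 2) := e.trans (MulEquiv.ofBijective toG ⟨hinj, hsurj⟩)
  let ι : GL (Fin n) (ZMod 2) →* G := N.subtype.comp θ.symm.toMonoidHom
  have hι : Function.Injective ι := N.subtype_injective.comp θ.symm.injective
  have hιN : ∀ x, ι x ∈ N := fun x => (θ.symm x).2
  have hιs : ∀ x ∈ N, ∃ y, ι y = x := fun x hx => ⟨θ ⟨x, hx⟩, by
    show ((θ.symm (θ ⟨x, hx⟩) : N) : G) = x
    rw [MulEquiv.symm_apply_apply]⟩
  have hm : ∀ y, ι y ∈ (upp n).map ι ↔ y ∈ upp n := fun y => Subgroup.mem_map_iff_mem hι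
  refine exists_common N hidx ((upp n).map ι) (by rintro _ ⟨y, -, rfl⟩; exact hιN y)
    (upp_isPGroup.map ι) ?_ ?_ (ι (wTop n)) (hιN _) ?_ ?_ H H'
  · obtain ⟨S, hS⟩ := CfsgLib.Pronormal.exists_sylow_eq_of_pElements (p := 2) upp_isPGroup
      fun x hx _ => self_normal hx
    have hrange : ι.range = N := by
      rw [MonoidHom.range_comp, MonoidHom.range_eq_top.2 θ.symm.surjective, ← MonoidHom.range_eq_map,
        Subgroup.range_subtype]
    have e1 : ((upp n).map ι).relIndex N = (upp n).index := by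
      rw [← hrange, MonoidHom.range_eq_map, Subgroup.relIndex_map_map_of_injective _ _ hι,
        Subgroup.relIndex_top_right]
    rw [e1, ← hS]
    exact S.not_dvd_index
  · intro x hx hn
    obtain ⟨y, rfl⟩ := hιs x hx
    rw [hm]
    refine self_normal (Subgroup.mem_normalizer_iff.2 fun z => ?_)
    have := Subgroup.mem_normalizer_iff.1 hn (ι z)
    rwa [← map_inv, ← map_mul, ← map_mul, hm, hm] at this
  · rintro _ ⟨y, hy, rfl⟩ hy'
    rw [← map_inv, ← map_mul, ← map_mul, hm] at hy'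
    rw [meet_wTop hy hy', map_one]
  · intro g hg hmeet
    obtain ⟨g, rfl⟩ := hιs g hg
    obtain ⟨u, hu, huw⟩ := opposite (g := g) fun x hx hx' => hι (by
      rw [map_one]
      exact hmeet _ ((hm x).2 hx) (by rw [← map_inv, ← map_mul, ← map_mul, hm]; exact hx'))
    refine ⟨ι u, (hm u).2 hu, fun x => ?_⟩
    by_cases hx : x ∈ N
    · obtain ⟨x, rfl⟩ := hιs x hx
      simp only [← map_inv, ← map_mul, hm]
      exact huw x
    · constructor
      · intro h
        refine absurd ?_ hx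
        obtain ⟨y, -, hy⟩ := h
        have := mul_mem (mul_mem hg (hy ▸ hιN y)) (inv_mem hg)
        simpa [mul_assoc] using this
      · intro h
        refine absurd ?_ hx
        obtain ⟨y, -, hy⟩ := h
        have := mul_mem (mul_mem (hιN u) (mul_mem (mul_mem (hιN (wTop n)) (hy ▸ hιN y))
          (inv_mem (hιN (wTop n))))) (inv_mem (hιN u))
        simpa [mul_assoc] using this

end CfsgLib.SylowMeet
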