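import Cfsg.Agent.Quad.Siegel
import Cfsg.Agent.Quad.Concrete

/-!
Sylow 2-subgroups of `O⁺(2m, 2)` meet non-trivially.
-/

set_option autoImplicit false
set_option linter.style.haveILetI false
set_option linter.unusedSectionVars false

namespace CfsgLib.SylowMeet

open QuadraticMap CfsgLib.Forms CfsgLib.Quad

variable {F V : Type*} [Field F] [Finite F] [AddCommGroup V] [Module F V] [FiniteDimensional F V]

/-- Any two Sylow 2-subgroups share a non-trivial element. -/
def Meet (G : Type*) [Group G] : Prop :=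
  ∀ H H' : Sylow 2 G, ∃ g : G, g ≠ 1 ∧ g ∈ (H : Subgroup G) ∧ g ∈ (H' : Subgroup G)

theorem Meet.congr {G G' : Type*} [Group G] [Group G'] (e : G ≃* G') (h : Meet G) : Meet G' := by
  intro H H'
  have hp : ∀ K : Sylow 2 G', (K : Subgroup G').comap e.toMonoidHom ≤ e.toMonoidHom.range.comap e.toMonoidHom :=
    fun K x _ => ⟨x, rfl⟩
  obtain ⟨g, hg1, hg, hg'⟩ := h (H.comapOfInjective e.toMonoidHom e.injective
      (fun x _ => ⟨e.symm x, e.apply_symm_apply x⟩))
    (H'.comapOfInjective e.toMonoidHom e.injective (fun x _ => ⟨e.symm x, e.apply_symm_apply x⟩))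
  exact ⟨e g, fun he => hg1 (e.injective (he.trans (map_one e).symm)), hg, hg'⟩

variable {Q : QuadraticForm F V}

/-- The stabiliser of a vector. -/
def stabV (Q : QuadraticForm F V) (P : V) : Subgroup (oGroup Q) where
  carrier := {g | g.1 P = P}
  one_mem' := rfl
  mul_mem' := fun {g h} hg hh => by
    show g.1 (h.1 P) = P
    rw [hh, hg]
  inv_mem' := fun {g} hg => by
    show g.1.symm P = P
    rw [LinearEquiv.symm_apply_eq]; exact hg.symm

theorem mem_stabV {P : V} {g : oGroup Q} : g ∈ stabV Q P ↔ g.1 P = P := Iff.rfl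

/-- The Siegel group at a singular vector. -/
def sGrp {P : V} (hP : Q P = 0) : Subgroup (oGroup Q) where
  carrier := {g | ∃ a, polar Q P a = 0 ∧ g = siegel Q P a}
  one_mem' := ⟨0, polar_zero_right Q P, (siegel_zero hP).symm⟩
  mul_mem' := by
    rintro _ _ ⟨a, ha, rfl⟩ ⟨b, hb, rfl⟩
    exact ⟨a + b, by rw [polar_add_right, ha, hb, add_zero], siegel_mul hP ha hb⟩
  inv_mem' := by
    rintro _ ⟨a, ha, rfl⟩
    exact ⟨-a, by rw [polar_neg_right, ha, neg_zero], siegel_inv hP ha⟩

variable (h2 : (2 : F) = 0)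
include h2

theorem siegel_invol {P a : V} (hP : Q P = 0) (ha : polar Q P a = 0) :
    siegel Q P a * siegel Q P a = 1 := by
  rw [siegel_mul hP ha ha, ← two_smul F a, h2, zero_smul, siegel_zero hP]

theorem sGrp_isPGroup {P : V} (hP : Q P = 0) : IsPGroup 2 (sGrp (Q := Q) hP) := by
  rintro ⟨g, a, ha, rfl⟩
  exact ⟨1, Subtype.ext (by rw [pow_one, pow_two]; exact siegel_invol h2 hP ha)⟩

omit h2 in
theorem stabV_le_normalizer {P : V} (hP : Q P = 0) :
    stabV Q P ≤ Subgroup.normalizer (sGrp (Q := Q) hP : Set (oGroup Q)) := by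
  intro g hg
  rw [Subgroup.mem_normalizer_iff]
  have key : ∀ g : oGroup Q, g.1 P = P → ∀ x ∈ sGrp (Q := Q) hP, g * x * g⁻¹ ∈ sGrp (Q := Q) hP := by
    rintro g hg _ ⟨a, ha, rfl⟩
    refine ⟨g.1 a, ?_, ?_⟩
    · conv_lhs => rw [← hg]
      rw [polar_oGroup, ha]
    · rw [siegel_conj g hP ha, hg]
  intro x
  refine ⟨key g hg x, fun hx => ?_⟩
  have := key g⁻¹ ((stabV Q P).inv_mem hg) _ hx
  rwa [show g⁻¹ * (g * x * g⁻¹) * g⁻¹⁻¹ = x by group] at this

theorem sGrp_le_sylow {P : V} (hP : Q P = 0) (H : Sylow 2 (oGroup Q))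
    (hH : ∀ g ∈ (H : Subgroup (oGroup Q)), g.1 P = P) : sGrp (Q := Q) hP ≤ H := by
  have hsup := H.isPGroup'.to_sup_of_normal_right' (sGrp_isPGroup h2 hP)
    (fun g hg => stabV_le_normalizer hP (hH g hg))
  rw [← H.is_maximal' hsup le_sup_left]
  exact le_sup_right

/-- In `H ⊕ W`: two Sylow subgroups fixing the two hyperbolic vectors meet if those of `O(W)` do. -/
theorem meet_opposite {Q₀ : QuadraticForm F V} (hQ₀ : (polarBilin Q₀).Nondegenerate)
    (hm : Meet (oGroup Q₀)) (H H' : Sylow 2 (oGroup (hypSum Q₀)))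
    (hH : ∀ g ∈ (H : Subgroup (oGroup (hypSum Q₀))), g.1 e₀ = e₀)
    (hH' : ∀ g ∈ (H' : Subgroup (oGroup (hypSum Q₀))), g.1 f₀ = f₀) :
    ∃ g, g ≠ 1 ∧ g ∈ (H : Subgroup (oGroup (hypSum Q₀))) ∧ g ∈ (H' : Subgroup (oGroup (hypSum Q₀))) := by
  have he : hypSum Q₀ (e₀ : (F × F) × V) = 0 := by simp [hypSum_apply, e₀]
  have hf : hypSum Q₀ (f₀ : (F × F) × V) = 0 := by simp [hypSum_apply, f₀]
  -- a Sylow subgroup fixing one vector meets the common stabiliser in a Sylow subgroup
  have key : ∀ (K : Sylow 2 (oGroup (hypSum Q₀))) (P R : (F × F) × V),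
      hypSum Q₀ P = 0 → hypSum Q₀ R = 0 → polar (hypSum Q₀) P R = 1 →
      (∀ y : oGroup (hypSum Q₀), y ∈ (oExtend Q₀).range ↔ y.1 P = P ∧ y.1 R = R) →
      (∀ g ∈ (K : Subgroup (oGroup (hypSum Q₀))), g.1 P = P) →
      ∃ S : Sylow 2 (oGroup Q₀), ∀ s ∈ (S : Subgroup (oGroup Q₀)), oExtend Q₀ s ∈ (K : Subgroup (oGroup (hypSum Q₀))) := by
    intro K P R hP hR hPR hrange hK
    have hU := sGrp_le_sylow h2 hP K hK
    have hdec : ∀ k ∈ (K : Subgroup (oGroup (hypSum Q₀))),
        ∃ u ∈ sGrp (Q := hypSum Q₀) hP, ∃ s, k = u * oExtend Q₀ s := by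
      intro k hk
      set R' := k.1 R
      have hPP : polar (hypSum Q₀) P P = 0 := by rw [polar_self, hP, smul_zero]
      have hRR : polar (hypSum Q₀) R R = 0 := by rw [polar_self, hR, smul_zero]
      have hPR' : polar (hypSum Q₀) P R' = 1 := by
        rw [← hK k hk, polar_oGroup, hPR]
      have hR' : hypSum Q₀ R' = 0 := by rw [k.2, hR]
      set a := R' - R - polar (hypSum Q₀) R R' • P with ha_def
      have ha : polar (hypSum Q₀) P a = 0 := by
        rw [ha_def, polar_sub_right, polar_sub_right, polar_smul_right, hPP, smul_zero, hPR', hPR]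
        ring
      have hsR : (siegel (hypSum Q₀) P a).1 R = R' := by
        have hRa : polar (hypSum Q₀) R a = 0 := by
          rw [ha_def, polar_sub_right, polar_sub_right, polar_smul_right, hRR,
            polar_comm (⇑(hypSum Q₀)) R P, hPR, smul_eq_mul, mul_one, sub_zero, sub_self]
        have hQa : hypSum Q₀ a = -polar (hypSum Q₀) R R' := by
          have e : R' = R + a + polar (hypSum Q₀) R R' • P := by rw [ha_def]; abel
          have h := hR'
          rw [e, quad_add, quad_add, quad_smul, hP, hR, hRa, polar_smul_right, polar_add_left,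
            polar_comm (⇑(hypSum Q₀)) R P, hPR, polar_comm (⇑(hypSum Q₀)) a P, ha, smul_eq_mul] at h
          linear_combination h
        rw [siegel_apply hP ha, polar_comm (⇑(hypSum Q₀)) R P, hPR, hRa, hQa, one_smul, ha_def]
        module
      have hu : siegel (hypSum Q₀) P a ∈ sGrp (Q := hypSum Q₀) hP := ⟨a, ha, rfl⟩
      obtain ⟨s, hs⟩ := (hrange ((siegel (hypSum Q₀) P a)⁻¹ * k)).2 ⟨by
          show ((siegel (hypSum Q₀) P a).1.symm) (k.1 P) = P
          rw [hK k hk, LinearEquiv.symm_apply_eq]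
          exact (hK _ (hU hu)).symm, by
          show ((siegel (hypSum Q₀) P a).1.symm) (k.1 R) = R
          rw [LinearEquiv.symm_apply_eq, hsR]⟩
      exact ⟨_, hu, s, by rw [hs]; group⟩
    set S₀ : Subgroup (oGroup Q₀) := (K : Subgroup (oGroup (hypSum Q₀))).comap (oExtend Q₀)
    have hS₀ : IsPGroup 2 S₀ := K.isPGroup'.comap_of_injective _ (oExtend_injective Q₀)
    obtain ⟨S, hS⟩ := hS₀.exists_le_sylow
    refine ⟨S, fun s hs => ?_⟩
    set T : Subgroup (oGroup (hypSum Q₀)) := (S : Subgroup (oGroup Q₀)).map (oExtend Q₀)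
    have hT : ∀ g ∈ T, g.1 P = P := by
      rintro _ ⟨s, -, rfl⟩
      exact ((hrange _).1 ⟨s, rfl⟩).1
    have hsup : IsPGroup 2 (T ⊔ sGrp (Q := hypSum Q₀) hP : Subgroup (oGroup (hypSum Q₀))) :=
      (S.isPGroup'.map _).to_sup_of_normal_right' (sGrp_isPGroup h2 hP)
        (fun g hg => stabV_le_normalizer hP (hT g hg))
    have hle : (K : Subgroup (oGroup (hypSum Q₀))) ≤ T ⊔ sGrp (Q := hypSum Q₀) hP := by
      intro k hk
      obtain ⟨u, hu, s, rfl⟩ := hdec k hk
      refine mul_mem (Subgroup.mem_sup_right hu) (Subgroup.mem_sup_left ⟨s, hS ?_, rfl⟩)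
      show oExtend Q₀ s ∈ (K : Subgroup (oGroup (hypSum Q₀)))
      have := mul_mem (inv_mem (hU hu)) hk
      rwa [inv_mul_cancel_left] at this
    rw [← K.is_maximal' hsup hle]
    exact Subgroup.mem_sup_left ⟨s, hs, rfl⟩
  obtain ⟨S, hS⟩ := key H e₀ f₀ he hf (by simp [hypSum_polar, e₀, f₀]) (mem_range_oExtend hQ₀) hH
  obtain ⟨S', hS'⟩ := key H' f₀ e₀ hf he (by simp [hypSum_polar, e₀, f₀])
    (fun y => (mem_range_oExtend hQ₀ y).trans and_comm) hH'
  obtain ⟨g, hg1, hg, hg'⟩ := hm S S'
  exact ⟨oExtend Q₀ g, fun e => hg1 (oExtend_injective Q₀ (e.trans (map_one _).symm)),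
    hS g hg, hS' g hg'⟩

/-- The induction step. -/
theorem meet_hypSum (hq : Nat.card F = 2) {Q₀ : QuadraticForm F V}
    (hQ₀ : (polarBilin Q₀).Nondegenerate) (heven : Even (Nat.card V)) (hm : Meet (oGroup Q₀)) :
    Meet (oGroup (hypSum Q₀)) := by
  haveI : Finite V := Module.finite_of_finite F
  haveI : Fintype F := Fintype.ofFinite F
  have h01 : ∀ c : F, c = 0 ∨ c = 1 := by
    intro c
    rcases eq_or_ne c 0 with h | h
    · exact Or.inl h
    · refine Or.inr ?_
      have := FiniteField.pow_card_sub_one_eq_one c h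
      rwa [← Nat.card_eq_fintype_card, hq, pow_one] at this
  set W := hypSum Q₀
  intro H H'
  have hW := hypSum_nondeg hQ₀
  haveI : Fact (Nat.Prime 2) := ⟨Nat.prime_two⟩
  -- every Sylow subgroup fixes a singular vector
  have hfix : ∀ K : Sylow 2 (oGroup W), ∃ P, P ≠ 0 ∧ W P = 0 ∧ ∀ g ∈ (K : Subgroup (oGroup W)), g.1 P = P := by
    intro K
    letI : MulAction (K : Subgroup (oGroup W)) {p : (F × F) × V // W p = 0 ∧ p ≠ 0} :=
      { smul := fun g p => ⟨g.1.1 p.1, by rw [g.1.2]; exact p.2.1,
          fun e => p.2.2 ((LinearEquiv.map_eq_zero_iff _).1 e)⟩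
        one_smul := fun p => rfl
        mul_smul := fun g g' p => rfl }
    have hodd : ¬ 2 ∣ Nat.card {p : (F × F) × V // W p = 0 ∧ p ≠ 0} := by
      have hc := card_zero_hypSum Q₀ hq
      have hsplit : Nat.card {p : (F × F) × V // W p = 0} =
          Nat.card {p : (F × F) × V // W p = 0 ∧ p ≠ 0} + 1 := by
        classical
        rw [← Finite.card_option]
        exact Nat.card_congr
          { toFun := fun v => if h : v.1 = 0 then none else some ⟨v.1, v.2, h⟩
            invFun := fun o => o.elim ⟨0, QuadraticMap.map_zero W⟩ fun v => ⟨v.1, v.2.1⟩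
            left_inv := fun v => by by_cases h : v.1 = 0 <;> simp [h, Subtype.ext_iff]
            right_inv := fun o => by
              rcases o with _ | v
              · simp
              · simp [v.2.2] }
      obtain ⟨k, hk⟩ := heven
      intro hd
      rw [hsplit, hk] at hc
      push_cast at hc
      omega
    obtain ⟨p, hp⟩ := K.isPGroup'.nonempty_fixed_point_of_prime_not_dvd_card _ hodd
    exact ⟨p.1, p.2.2, p.2.1, fun g hg => congrArg Subtype.val (hp ⟨g, hg⟩)⟩
  obtain ⟨P, hP0, hP, hHP⟩ := hfix H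
  obtain ⟨R, hR0, hR, hHR⟩ := hfix H'
  rcases h01 (polar W P R) with hPR | hPR
  · -- orthogonal: a Siegel element lies in both
    by_cases heq : P = R
    · subst heq
      obtain ⟨f, hf⟩ := exists_polar_ne hW hP0
      obtain ⟨a, ha, haP⟩ : ∃ a, polar W P a = 0 ∧ ∀ t : F, a ≠ t • P := by
        haveI : Nontrivial V := by
          refine Finite.one_lt_card_iff_nontrivial.1 ?_
          have := Nat.card_pos (α := V)
          obtain ⟨k, hk⟩ := heven
          omega
        by_contra hc
        push Not at hc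
        have hker : LinearMap.ker (polarFun W P) ≤ Submodule.span F {P} := fun a ha => by
          obtain ⟨t, ht⟩ := hc a (by rw [polar_comm]; exact ha)
          exact Submodule.mem_span_singleton.2 ⟨t, ht.symm⟩
        have h1 := Submodule.finrank_mono hker
        have h3 : Module.finrank F (Submodule.span F {P}) ≤ 1 :=
          (finrank_span_le_card ({P} : Set ((F × F) × V))).trans (by simp)
        have h4 := (polarFun W P).finrank_range_add_finrank_ker
        have h5 := Submodule.finrank_le (LinearMap.range (polarFun W P))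
        rw [Module.finrank_self] at h5
        rw [Module.finrank_prod, Module.finrank_prod, Module.finrank_self] at h4
        have h6 : 0 < Module.finrank F V := Module.finrank_pos
        omega
      refine ⟨siegel W P a, fun e => ?_, sGrp_le_sylow h2 hP H hHP ⟨a, ha, rfl⟩,
        sGrp_le_sylow h2 hP H' hHR ⟨a, ha, rfl⟩⟩
      have hfP : polar W f P ≠ 0 := fun h => hf (by rw [polar_comm]; exact h)
      have h1 : (siegel W P a).1 f = f := by rw [e]; rfl
      rw [siegel_apply hP ha, (h01 (polar W f P)).resolve_left hfP, one_smul, mul_one] at h1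
      refine haP (polar W f a + W a) ?_
      linear_combination (norm := module) h1
    · have hRP : polar W R P = 0 := by rw [polar_comm, hPR]
      have hsw : siegel W P R = siegel W R P := by
        refine Subtype.ext (LinearEquiv.ext fun x => ?_)
        rw [siegel_apply hP hPR, siegel_apply hR hRP, hP, hR]
        match_scalars <;> first
          | ring1
          | linear_combination (polar W x P) * h2
          | linear_combination -(polar W x P) * h2
          | linear_combination (polar W x R) * h2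
          | linear_combination -(polar W x R) * h2
      obtain ⟨x, hxP, hxR⟩ : ∃ x, polar W x P = 1 ∧ polar W x R = 0 := by
        by_contra hc
        push Not at hc
        -- otherwise the two functionals agree
        refine heq (sub_eq_zero.1 (hW.2 _ fun x => ?_))
        show polar W x (P - R) = 0
        rw [polar_sub_right]
        rcases h01 (polar W x P) with h | h
        · rcases h01 (polar W x R) with h' | h'
          · rw [h, h', sub_zero]
          · obtain ⟨f, hf⟩ := exists_polar_ne hW hP0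
            have hf1 : polar W f P = 1 := by
              rw [polar_comm]; exact (h01 _).resolve_left hf
            exfalso
            rcases h01 (polar W f R) with h'' | h''
            · exact hc f hf1 h''
            · refine hc (x + f) (by rw [polar_add_left, h, hf1, zero_add]) ?_
              rw [polar_add_left, h', h'', ← two_mul, h2, zero_mul]
        · rcases h01 (polar W x R) with h' | h'
          · exact absurd h' (hc x h)
          · rw [h, h', sub_self]
      refine ⟨siegel W P R, fun e => ?_, sGrp_le_sylow h2 hP H hHP ⟨R, hPR, rfl⟩,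
        sGrp_le_sylow h2 hR H' hHR ⟨P, hRP, hsw⟩⟩
      have h1 : (siegel W P R).1 x = x := by rw [e]; rfl
      rw [siegel_apply hP hPR, hxP, hxR, hR, one_smul, zero_mul, add_zero, zero_smul, sub_zero] at h1
      exact hR0 (by simpa using h1)
  · -- opposite: reduce to the common stabiliser
    have hind : ∀ a b : (F × F) × V, W a = 0 → W b = 0 → polar W a b = 1 →
        LinearIndependent F ![a, b] := by
      intro a b ha hb hab
      rw [LinearIndependent.pair_iff]
      intro s t hst
      have h1 := congrArg (fun x => polar W a x) hst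
      have h3 := congrArg (fun x => polar W b x) hst
      simp only [polar_add_right, polar_smul_right, polar_zero_right, polar_self, ha, hb,
        smul_eq_mul, mul_zero, zero_add, add_zero, hab, polar_comm (⇑W) b a, smul_zero, mul_one] at h1 h3
      exact ⟨h3, h1⟩
    have hee : W (e₀ : (F × F) × V) = 0 := by simp [W, hypSum_apply, e₀]
    have hff : W (f₀ : (F × F) × V) = 0 := by simp [W, hypSum_apply, f₀]
    have hef : polar W (e₀ : (F × F) × V) f₀ = 1 := by simp [W, hypSum_polar, e₀, f₀]
    obtain ⟨g, hg, hgv⟩ := quad_exists_map_family (Q := W) hW ![P, R] ![e₀, f₀] (hind _ _ hP hR hPR)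
      (hind _ _ hee hff hef)
      (fun i => by fin_cases i <;> simp [hP, hR, hee, hff])
      (fun i j => by
        have hRP : polar W R P = 1 := by rw [polar_comm]; exact hPR
        have hfe : polar W (f₀ : (F × F) × V) e₀ = 1 := by rw [polar_comm]; exact hef
        fin_cases i <;> fin_cases j <;> simp [polar_self, hP, hR, hee, hff, hPR, hRP, hef, hfe])
    let γ : oGroup W := ⟨g, hg⟩
    have hmove : ∀ (K : Sylow 2 (oGroup W)) (A B : (F × F) × V), g A = B →
        (∀ k ∈ (K : Subgroup (oGroup W)), k.1 A = A) →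
        ∀ k ∈ ((γ • K : Sylow 2 (oGroup W)) : Subgroup (oGroup W)), k.1 B = B := by
      intro K A B hAB hK k hk
      rw [Sylow.coe_subgroup_smul, Subgroup.mem_pointwise_smul_iff_inv_smul_mem] at hk
      have := hK _ hk
      rw [← map_inv, MulAut.smul_def, MulAut.conj_apply, inv_inv] at this
      have h' : g.symm (k.1 (g A)) = A := this
      rw [hAB, LinearEquiv.symm_apply_eq, hAB] at h'
      exact h'
    obtain ⟨z, hz1, hz, hz'⟩ := meet_opposite h2 hQ₀ hm (γ • H) (γ • H') (hmove H P e₀ (hgv 0) hHP)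
      (hmove H' R f₀ (hgv 1) hHR)
    rw [Sylow.coe_subgroup_smul, Subgroup.mem_pointwise_smul_iff_inv_smul_mem, ← map_inv,
      MulAut.smul_def] at hz hz'
    exact ⟨_, fun e => hz1 ((MulEquiv.map_eq_one_iff _).1 e), hz, hz'⟩

/-- Two Sylow 2-subgroups of `O⁺(2m, 2)` meet, `m ≥ 1`. -/
theorem meet_plus (hq : Nat.card F = 2) : ∀ m : ℕ, Meet (oGroup (plusQ (F := F) (m + 1)))
  | 0 => by
      refine Meet.congr (oGroupCongr (plusSplit (F := F) 0).symm fun v => by
        rw [← plusSplit_apply, LinearEquiv.apply_symm_apply]) ?_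
      set W := hypSum (plusQ (F := F) 0)
      haveI : Fintype F := Fintype.ofFinite F
      have h01 : ∀ c : F, c = 0 ∨ c = 1 := by
        intro c
        rcases eq_or_ne c 0 with h | h
        · exact Or.inl h
        · refine Or.inr ?_
          have := FiniteField.pow_card_sub_one_eq_one c h
          rwa [← Nat.card_eq_fintype_card, hq, pow_one] at this
      -- the group permutes the two singular vectors
      have hcases : ∀ p : (F × F) × (Fin 0 ⊕ Fin 0 → F), W p = 0 → p ≠ 0 → p = e₀ ∨ p = f₀ := by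
        rintro ⟨⟨a, b⟩, v⟩ hp h0
        obtain rfl : v = 0 := Subsingleton.elim _ _
        rw [hypSum_apply, QuadraticMap.map_zero, add_zero] at hp
        rcases h01 a with rfl | rfl <;> rcases h01 b with rfl | rfl
        · exact absurd rfl h0
        · exact Or.inr rfl
        · exact Or.inl rfl
        · simp at hp
      have he : W e₀ = 0 := by simp [W, hypSum_apply, e₀]
      have hf : W f₀ = 0 := by simp [W, hypSum_apply, f₀]
      have he0 : (e₀ : (F × F) × (Fin 0 ⊕ Fin 0 → F)) ≠ 0 := by simp [e₀]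
      have hf0 : (f₀ : (F × F) × (Fin 0 ⊕ Fin 0 → F)) ≠ 0 := by simp [f₀]
      have hnef : (e₀ : (F × F) × (Fin 0 ⊕ Fin 0 → F)) ≠ f₀ := by simp [e₀, f₀]
      have him : ∀ g : oGroup W, (g.1 e₀ = e₀ ∧ g.1 f₀ = f₀) ∨ (g.1 e₀ = f₀ ∧ g.1 f₀ = e₀) := by
        intro g
        have h1 := hcases (g.1 e₀) (by rw [g.2, he]) (fun e => he0 ((LinearEquiv.map_eq_zero_iff _).1 e))
        have h3 := hcases (g.1 f₀) (by rw [g.2, hf]) (fun e => hf0 ((LinearEquiv.map_eq_zero_iff _).1 e))
        have hne : g.1 e₀ ≠ g.1 f₀ := fun e => hnef (g.1.injective e)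
        rcases h1 with h | h <;> rcases h3 with h' | h'
        · exact absurd (h.trans h'.symm) hne
        · exact Or.inl ⟨h, h'⟩
        · exact Or.inr ⟨h, h'⟩
        · exact absurd (h.trans h'.symm) hne
      have hext : ∀ g g' : oGroup W, g.1 e₀ = g'.1 e₀ → g.1 f₀ = g'.1 f₀ → g = g' := by
        intro g g' h1 h3
        refine Subtype.ext (LinearEquiv.ext fun p => ?_)
        have hp : p = p.1.1 • e₀ + p.1.2 • f₀ :=
          Prod.ext (Prod.ext (by simp [e₀, f₀]) (by simp [e₀, f₀])) (Subsingleton.elim _ _)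
        rw [hp, map_add, map_add, map_smul, map_smul, map_smul, map_smul, h1, h3]
      have hsq : ∀ g : oGroup W, g ^ 2 ^ 1 = 1 := by
        intro g
        rw [pow_one, pow_two]
        rcases him g with ⟨h, h'⟩ | ⟨h, h'⟩
        · exact hext _ _ (by show g.1 (g.1 e₀) = e₀; rw [h, h]) (by show g.1 (g.1 f₀) = f₀; rw [h', h'])
        · exact hext _ _ (by show g.1 (g.1 e₀) = e₀; rw [h, h']) (by show g.1 (g.1 f₀) = f₀; rw [h', h])
      haveI : Fact (Nat.Prime 2) := ⟨Nat.prime_two⟩
      have hall : IsPGroup 2 (⊤ : Subgroup (oGroup W)) := fun g => ⟨1, Subtype.ext (hsq g.1)⟩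
      let sw : oGroup W := ⟨(LinearEquiv.prodComm F F F).prodCongr (LinearEquiv.refl F _), fun p => by
        simp [W, hypSum_apply, mul_comm]⟩
      intro H H'
      refine ⟨sw, fun e => hnef ?_, ?_, ?_⟩
      · have := congrArg (fun z : oGroup W => z.1 e₀) e
        exact this.symm
      · rw [← H.is_maximal' hall le_top]; trivial
      · rw [← H'.is_maximal' hall le_top]; trivial
  | m + 1 => by
      refine Meet.congr (oGroupCongr (plusSplit (F := F) (m + 1)).symm fun v => by
        rw [← plusSplit_apply, LinearEquiv.apply_symm_apply])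
        (meet_hypSum h2 hq (plusQ_nondeg (m + 1)) ?_ (meet_plus hq m))
      rw [Nat.card_fun, hq]
      refine (Nat.even_pow).2 ⟨even_two, ?_⟩
      simp

end CfsgLib.SylowMeet
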